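import Mathlib

/-!
# Adic completeness depends only on the topology
-/

namespace Groth.Agent.AdicEquiv

variable {R : Type*} [CommRing R] {I J : Ideal R} {M : Type*} [AddCommGroup M] [Module R M]

theorem of_pow_le_pow_le (c d : ℕ) (hc : 0 < c) (hI : I ^ c ≤ J) (hJ : J ^ d ≤ I)
    (h : IsAdicComplete J M) : IsAdicComplete I M := by
  have hle : ∀ n, J ^ (d * n) ≤ I ^ n := fun n => by rw [pow_mul]; exact Ideal.pow_right_mono hJ n
  have hle' : ∀ n, I ^ (c * n) ≤ J ^ n := fun n => by rw [pow_mul]; exact Ideal.pow_right_mono hI n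
  refine { toIsHausdorff := ⟨fun x hx => ?_⟩, toIsPrecomplete := ⟨fun f hf => ?_⟩ }
  · refine h.toIsHausdorff.haus x fun n => ?_
    exact (hx (c * n)).mono (Submodule.smul_mono_left (hle' n))
  · obtain ⟨L, hL⟩ := h.toIsPrecomplete.prec (f := fun n => f (c * n)) (fun {m n} hmn =>
      (hf (Nat.mul_le_mul_left c hmn)).mono (Submodule.smul_mono_left (hle' m)))
    refine ⟨L, fun n => ?_⟩
    have h1 : f n ≡ f (c * max n (d * n)) [SMOD (I ^ n • ⊤ : Submodule R M)] :=
      hf (le_trans (le_max_left _ _) (Nat.le_mul_of_pos_left _ hc))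
    refine h1.trans ((hL (max n (d * n))).mono (Submodule.smul_mono_left ?_))
    exact (Ideal.pow_le_pow_right (le_max_right _ _)).trans (hle n)

end Groth.Agent.AdicEquiv
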